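import Mathlib

/-!
# The order `p` substitution `t ↦ t (1 + tⁿ)^(-1/n)` on power series
-/

set_option autoImplicit false

universe u

open PowerSeries

namespace Groth.Agent.ASCov

variable {k : Type u} [Field k] (p : ℕ) [Fact p.Prime] [CharP k p] (n : ℕ) (U : (PowerSeries k)ˣ)

/-- The hypotheses on the unit. -/
structure Good : Prop where
  n_pos : 0 < n
  not_dvd : ¬ p ∣ n
  const : constantCoeff (U : PowerSeries k) = 1
  rel : (U : PowerSeries k) ^ n * (1 + PowerSeries.X ^ n) = 1

theorem hasSubst_X_mul (f : PowerSeries k) : HasSubst (PowerSeries.X * f) :=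
  HasSubst.of_constantCoeff_zero' (by simp)

/-- The substitution. -/
noncomputable def sig : PowerSeries k →ₐ[k] PowerSeries k :=
  substAlgHom (hasSubst_X_mul (U : PowerSeries k))

theorem sig_apply (h : PowerSeries k) : sig U h = subst (PowerSeries.X * (U : PowerSeries k)) h := by
  rw [sig, ← coe_substAlgHom]

theorem sig_X : sig U PowerSeries.X = PowerSeries.X * (U : PowerSeries k) := by
  rw [sig_apply]; exact subst_X (hasSubst_X_mul _)

theorem sig_C (r : k) : sig U (C r) = C r := by
  rw [← algebraMap_eq, AlgHom.commutes]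

theorem constantCoeff_sig (h : PowerSeries k) : constantCoeff (sig U h) = constantCoeff h := by
  conv_lhs => rw [eq_X_mul_shift_add_const h]
  rw [map_add, map_mul, sig_X, sig_C, map_add, map_mul, map_mul, constantCoeff_X, constantCoeff_C]
  simp

/-- The twisted substitution. -/
noncomputable def T (b : ℤ) : Module.End k (PowerSeries k) :=
  (LinearMap.mulLeft k ((U ^ b : (PowerSeries k)ˣ) : PowerSeries k)).comp (sig U).toLinearMap

theorem T_apply (b : ℤ) (h : PowerSeries k) :
    T U b h = ((U ^ b : (PowerSeries k)ˣ) : PowerSeries k) * sig U h := rfl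

/-- The difference operator. -/
noncomputable def D (b : ℤ) : Module.End k (PowerSeries k) := T U b - 1

theorem D_apply (b : ℤ) (h : PowerSeries k) :
    D U b h = ((U ^ b : (PowerSeries k)ˣ) : PowerSeries k) * sig U h - h := rfl

/-- The units of the iterates. -/
noncomputable def Uv : ℕ → (PowerSeries k)ˣ
  | 0 => 1
  | i + 1 => U * Units.map (sig U).toRingHom.toMonoidHom (Uv i)

theorem constantCoeff_Uv (hU : Good p n U) : ∀ i, constantCoeff (Uv U i : PowerSeries k) = 1
  | 0 => map_one _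
  | i + 1 => by
    show constantCoeff ((U : PowerSeries k) * sig U (Uv U i : PowerSeries k)) = 1
    rw [map_mul, constantCoeff_sig, constantCoeff_Uv hU i, hU.const, one_mul]

theorem Uv_rel (hU : Good p n U) : ∀ i : ℕ, (Uv U i : PowerSeries k) ^ n * (1 + C (i : k) * PowerSeries.X ^ n) = 1
  | 0 => by simp [Uv]
  | i + 1 => by
    have h1 := congrArg (sig U) (Uv_rel hU i)
    rw [map_mul, map_pow, map_add, map_mul, map_pow, map_one, sig_C, sig_X, mul_pow] at h1
    show ((U : PowerSeries k) * sig U (Uv U i : PowerSeries k)) ^ n * _ = 1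
    have h2 : (1 : PowerSeries k) + C (i : k) * (PowerSeries.X ^ n * (U : PowerSeries k) ^ n) =
        (U : PowerSeries k) ^ n * (1 + C ((i + 1 : ℕ) : k) * PowerSeries.X ^ n) := by
      push_cast
      rw [map_add, map_one]
      linear_combination (-1 : PowerSeries k) * hU.rel
    rw [h2] at h1
    linear_combination h1

theorem Uv_p (hU : Good p n U) : Uv U p = 1 := by
  have h1 := Uv_rel p n U hU p
  rw [CharP.cast_eq_zero k p, map_zero, zero_mul, add_zero, mul_one] at h1
  set v := (Uv U p : PowerSeries k) with hv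
  have h2 : (∑ i ∈ Finset.range n, v ^ i) * (v - 1) = 0 := by rw [geom_sum_mul, h1, sub_self]
  have h3 : (∑ i ∈ Finset.range n, v ^ i) ≠ 0 := by
    intro h
    have := congrArg constantCoeff h
    rw [map_sum, map_zero] at this
    simp only [map_pow, hv, constantCoeff_Uv p n U hU, one_pow, Finset.sum_const, Finset.card_range, nsmul_eq_mul,
      mul_one, CharP.cast_eq_zero_iff k p] at this
    exact hU.not_dvd this
  exact Units.ext (sub_eq_zero.mp ((mul_eq_zero.mp h2).resolve_left h3))

theorem T_pow (b : ℤ) : ∀ (i : ℕ) (h : PowerSeries k), (T U b ^ i) h =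
    (((Uv U i) ^ b : (PowerSeries k)ˣ) : PowerSeries k) * subst (PowerSeries.X * (Uv U i : PowerSeries k)) h
  | 0, h => by
    rw [pow_zero, Module.End.one_apply]
    show h = ((((1 : (PowerSeries k)ˣ)) ^ b : (PowerSeries k)ˣ) : PowerSeries k) *
      subst (PowerSeries.X * ((1 : (PowerSeries k)ˣ) : PowerSeries k)) h
    rw [one_zpow, Units.val_one, one_mul, mul_one, X_subst]
  | i + 1, h => by
    rw [pow_succ', Module.End.mul_apply, T_pow b i h, T_apply, map_mul, ← mul_assoc]
    congr 1
    · rw [show Uv U (i + 1) = U * Units.map (sig U).toRingHom.toMonoidHom (Uv U i) from rfl, mul_zpow, ← map_zpow]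
      rfl
    · have hX : subst (PowerSeries.X * (U : PowerSeries k)) (PowerSeries.X * (Uv U i : PowerSeries k)) =
          PowerSeries.X * (Uv U (i + 1) : PowerSeries k) := by
        rw [← sig_apply, map_mul, sig_X, mul_assoc]; rfl
      rw [sig_apply, subst_comp_subst_apply (hasSubst_X_mul _) (hasSubst_X_mul _), hX]

theorem T_pow_p (hU : Good p n U) (b : ℤ) : T U b ^ p = 1 := by
  refine LinearMap.ext fun h => ?_
  rw [T_pow, Uv_p p n U hU, one_zpow, Units.val_one, one_mul, mul_one, X_subst, Module.End.one_apply]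

theorem D_pow_p (hU : Good p n U) (b : ℤ) : D U b ^ p = 0 := by
  haveI : CharP (Module.End k (PowerSeries k)) p :=
    charP_of_injective_algebraMap (FaithfulSMul.algebraMap_injective k _) p
  rw [D, sub_pow_char_of_commute p (Commute.one_right _), T_pow_p p n U hU b, one_pow, sub_self]

/-- `v ≡ 1 + β Xⁿ` modulo `X²ⁿ`. -/
def Near (v : PowerSeries k) (β : k) : Prop := PowerSeries.X ^ (2 * n) ∣ v - (1 + C β * PowerSeries.X ^ n)

theorem Near.mul {v w : PowerSeries k} {β γ : k} (hv : Near n v β) (hw : Near n w γ) : Near n (v * w) (β + γ) := by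
  obtain ⟨s, hs⟩ := hv
  obtain ⟨t, ht⟩ := hw
  refine ⟨s * w + (1 + C β * PowerSeries.X ^ n) * t + C β * C γ, ?_⟩
  rw [map_add, two_mul n, pow_add]
  rw [two_mul n, pow_add] at hs ht
  linear_combination w * hs + (1 + C β * PowerSeries.X ^ n) * ht

theorem Near.inv {v w : PowerSeries k} {β : k} (hv : Near n v β) (hvw : v * w = 1) : Near n w (-β) := by
  obtain ⟨s, hs⟩ := hv
  refine ⟨w * (C β * C β - (1 + C (-β) * PowerSeries.X ^ n) * s), ?_⟩
  rw [map_neg, two_mul n, pow_add]
  rw [two_mul n, pow_add] at hs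
  linear_combination (-(1 - C β * PowerSeries.X ^ n) * w) * hs + (1 - C β * PowerSeries.X ^ n) * hvw

theorem near_U (hU : Good p n U) : Near n (U : PowerSeries k) (-(n : k)⁻¹) := by
  set w := (U : PowerSeries k) with hw
  have hn0 : (n : k) ≠ 0 := by rw [Ne, CharP.cast_eq_zero_iff k p]; exact hU.not_dvd
  set g := ∑ i ∈ Finset.range n, w ^ i with hg
  have h1 : g * (w - 1) = -(PowerSeries.X ^ n * w ^ n) := by
    rw [hg, geom_sum_mul]; linear_combination hU.rel
  have hg0 : constantCoeff g = (n : k) := by simp [hg, hw, hU.const]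
  obtain ⟨g', hg'⟩ : ∃ g', g * g' = 1 := isUnit_iff_exists_inv.mp (isUnit_iff_constantCoeff.mpr (by
    rw [hg0]; exact isUnit_iff_ne_zero.mpr hn0))
  have h2 : PowerSeries.X ^ n ∣ w - 1 := ⟨-(w ^ n * g'), by linear_combination g' * h1 - (w - 1) * hg'⟩
  have h3 : ∀ i : ℕ, PowerSeries.X ^ n ∣ w ^ i - 1 := fun i => h2.trans (sub_one_dvd_pow_sub_one w i)
  obtain ⟨s, hs⟩ : PowerSeries.X ^ n ∣ g - C (n : k) := by
    have : g - C (n : k) = ∑ i ∈ Finset.range n, (w ^ i - 1) := by simp [hg, map_natCast]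
    rw [this]; exact Finset.dvd_sum fun i _ => h3 i
  obtain ⟨r, hr⟩ := h3 n
  obtain ⟨z, hz⟩ := h2
  refine ⟨-(C (n : k)⁻¹) * (s * z + r), ?_⟩
  have hC : C (n : k) * C (n : k)⁻¹ = 1 := by rw [← map_mul, mul_inv_cancel₀ hn0, map_one]
  rw [map_neg, two_mul n, pow_add]
  linear_combination (C (n : k)⁻¹) * h1 - (C (n : k)⁻¹ * PowerSeries.X ^ n) * hr
    - (C (n : k)⁻¹ * (w - 1)) * hs - (C (n : k)⁻¹ * PowerSeries.X ^ n * s) * hz - (w - 1) * hC

theorem near_zpow (hU : Good p n U) (b : ℤ) :
    Near n ((U ^ b : (PowerSeries k)ˣ) : PowerSeries k) (-((b : k) / (n : k))) := by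
  have hnat : ∀ i : ℕ, Near n ((U : PowerSeries k) ^ i) (-((i : k) / (n : k))) := by
    intro i
    induction i with
    | zero => exact ⟨0, by simp⟩
    | succ i ih =>
      have := ih.mul n (near_U p n U hU)
      rw [pow_succ]
      convert this using 1
      push_cast; ring
  rcases Int.natAbs_eq b with e | e <;> rw [e]
  · rw [zpow_natCast, Units.val_pow_eq_pow_val, Int.cast_natCast]; exact hnat _
  · have := (hnat b.natAbs).inv n (w := ((U ^ (-(b.natAbs : ℤ)) : (PowerSeries k)ˣ) : PowerSeries k)) (by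
      rw [← Units.val_pow_eq_pow_val, ← Units.val_mul, ← zpow_natCast, ← zpow_add, add_neg_cancel, zpow_zero,
        Units.val_one])
    convert this using 1
    rw [Int.cast_neg, Int.cast_natCast]; ring

theorem dvd_sig_sub (hU : Good p n U) (r : PowerSeries k) : PowerSeries.X ^ (n + 1) ∣ sig U r - r := by
  obtain ⟨s, hs⟩ := near_U p n U hU
  have hu : PowerSeries.X ^ n ∣ (U : PowerSeries k) - 1 :=
    ⟨C (-(n : k)⁻¹) + PowerSeries.X ^ n * s, by rw [two_mul n, pow_add] at hs; linear_combination hs⟩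
  suffices ∀ m ≤ n, ∀ f : PowerSeries k, PowerSeries.X ^ (m + 1) ∣ sig U f - f from this n le_rfl r
  intro m
  induction m with
  | zero => intro _ f; rw [pow_one, X_dvd_iff, map_sub, constantCoeff_sig, sub_self]
  | succ m ih =>
    intro hm f
    set f' := PowerSeries.mk fun i => coeff (i + 1) f with hf'
    have h1 : sig U f - f = PowerSeries.X * (((U : PowerSeries k) - 1) * sig U f' + (sig U f' - f')) := by
      conv_lhs => rw [eq_X_mul_shift_add_const f]
      rw [map_add, map_mul, sig_X, sig_C, ← hf']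
      ring
    rw [h1, pow_succ']
    exact mul_dvd_mul_left _ (dvd_add (((pow_dvd_pow _ hm).trans hu).mul_right _) (ih (by omega) f'))

/-- The leading term of `D`. -/
theorem lead (hU : Good p n U) (b : ℤ) {h : PowerSeries k} {N : ℕ} (hh : PowerSeries.X ^ N ∣ h) :
    PowerSeries.X ^ (N + n) ∣ D U b h ∧
      coeff (N + n) (D U b h) = -(((b + N : ℤ) : k) / (n : k)) * coeff N h := by
  obtain ⟨r, rfl⟩ := hh
  obtain ⟨s, hs⟩ := near_zpow p n U hU (b + N)
  obtain ⟨t, ht⟩ := dvd_sig_sub p n U hU r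
  set γ := -(((b + N : ℤ) : k) / (n : k))
  have h1 : D U b (PowerSeries.X ^ N * r) = PowerSeries.X ^ (N + n) *
      ((C γ + PowerSeries.X ^ n * s) * sig U r + PowerSeries.X * t) := by
    rw [D_apply, map_mul, map_pow, sig_X, mul_pow, pow_add]
    rw [zpow_add, zpow_natCast, Units.val_mul, Units.val_pow_eq_pow_val, two_mul n, pow_add] at hs
    rw [pow_succ] at ht
    linear_combination (PowerSeries.X ^ N * sig U r) * hs + PowerSeries.X ^ N * ht
  rw [h1]
  refine ⟨dvd_mul_right _ _, ?_⟩
  rw [coeff_X_pow_mul', if_pos le_rfl, Nat.sub_self, coeff_X_pow_mul', if_pos le_rfl, Nat.sub_self]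
  simp only [coeff_zero_eq_constantCoeff_apply, map_add, map_mul, map_pow, constantCoeff_C, constantCoeff_X,
    zero_pow hU.n_pos.ne', zero_mul, add_zero, constantCoeff_sig]

theorem commute_shift (b : ℤ) (m : ℕ) : ∀ (j : ℕ) (h : PowerSeries k),
    PowerSeries.X ^ m * (D U b ^ j) h = (D U (b - m) ^ j) (PowerSeries.X ^ m * h)
  | 0, h => rfl
  | j + 1, h => by
    have h1 : ∀ g : PowerSeries k, D U (b - m) (PowerSeries.X ^ m * g) = PowerSeries.X ^ m * D U b g := fun g => by
      have e : ((U ^ (b - (m : ℤ)) : (PowerSeries k)ˣ) : PowerSeries k) * (U : PowerSeries k) ^ m =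
          ((U ^ b : (PowerSeries k)ˣ) : PowerSeries k) := by
        rw [← Units.val_pow_eq_pow_val, ← Units.val_mul, ← zpow_natCast, ← zpow_add, sub_add_cancel]
      rw [D_apply, D_apply, map_mul, map_pow, sig_X, mul_pow]
      linear_combination (PowerSeries.X ^ m * sig U g) * e
    rw [pow_succ', Module.End.mul_apply, pow_succ', Module.End.mul_apply, ← commute_shift b m j h, h1]

/-- The cocycles. -/
noncomputable def Z (b : ℤ) : Submodule k (PowerSeries k) := LinearMap.ker (D U b ^ (p - 1))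

theorem D_mem_Z (hU : Good p n U) (b : ℤ) (h : PowerSeries k) : D U b h ∈ Z p U b := by
  show (D U b ^ (p - 1) * D U b) h = 0
  rw [← pow_succ, Nat.sub_add_cancel (Fact.out : p.Prime).one_le, D_pow_p p n U hU, LinearMap.zero_apply]

theorem not_bad (hU : Good p n U) (b : ℤ) {y : PowerSeries k} (hy : y ∈ Z p U b) {e : ℕ}
    (he : PowerSeries.X ^ e ∣ y) (hne : coeff e y ≠ 0) : ¬ (p : ℤ) ∣ b + e - n := by
  intro hbad
  have hp : p.Prime := Fact.out
  have key : ∀ j, j ≤ p - 1 → PowerSeries.X ^ (e + j * n) ∣ (D U b ^ j) y ∧ coeff (e + j * n) ((D U b ^ j) y) ≠ 0 := by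
    intro j
    induction j with
    | zero => intro _; simpa using ⟨he, hne⟩
    | succ j ih =>
      intro hj
      obtain ⟨h1, h2⟩ := ih (by omega)
      obtain ⟨h3, h4⟩ := lead p n U hU b h1
      rw [pow_succ', Module.End.mul_apply, show e + (j + 1) * n = e + j * n + n by ring]
      refine ⟨h3, ?_⟩
      rw [h4]
      refine mul_ne_zero (neg_ne_zero.mpr (div_ne_zero (fun h0 => ?_) ?_)) h2
      · rw [CharP.intCast_eq_zero_iff k p] at h0
        have h5 : (p : ℤ) ∣ ((j + 1 : ℕ) : ℤ) * n := by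
          rw [show ((j + 1 : ℕ) : ℤ) * n = (b + ((e + j * n : ℕ) : ℤ)) - (b + e - n) by push_cast; ring]
          exact dvd_sub h0 hbad
        rw [← Nat.cast_mul, Int.natCast_dvd_natCast] at h5
        rcases hp.dvd_mul.mp h5 with h6 | h6
        · exact absurd (Nat.le_of_dvd (Nat.succ_pos _) h6) (by omega)
        · exact hU.not_dvd h6
      · rw [Ne, CharP.cast_eq_zero_iff k p]; exact hU.not_dvd
  exact (key (p - 1) le_rfl).2 (by rw [show (D U b ^ (p - 1)) y = 0 from hy, map_zero])

theorem solve (hU : Good p n U) (b : ℤ) {y : PowerSeries k} (hy : y ∈ Z p U b) (hyn : PowerSeries.X ^ n ∣ y) :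
    ∃ h, D U b h = y := by
  classical
  have hn0 : (n : k) ≠ 0 := by rw [Ne, CharP.cast_eq_zero_iff k p]; exact hU.not_dvd
  have step : ∀ (N : ℕ) (h : PowerSeries k), PowerSeries.X ^ (N + n) ∣ y - D U b h →
      ∃ h', PowerSeries.X ^ (N + 1 + n) ∣ y - D U b h' ∧ PowerSeries.X ^ N ∣ h' - h := by
    intro N h hN
    set z := y - D U b h with hz
    by_cases hc : coeff (N + n) z = 0
    · refine ⟨h, ?_, by simp⟩
      rw [X_pow_dvd_iff] at hN ⊢
      intro d hd
      rcases lt_or_eq_of_le (by omega : d ≤ N + n) with h1 | h1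
      · exact hN d h1
      · rw [h1]; exact hc
    · have hgood := not_bad p n U hU b (Submodule.sub_mem _ hy (D_mem_Z p n U hU b h)) hN hc
      have hfac : -(((b + N : ℤ) : k) / (n : k)) ≠ 0 := by
        refine neg_ne_zero.mpr (div_ne_zero (fun h0 => hgood ?_) hn0)
        rw [CharP.intCast_eq_zero_iff k p] at h0
        convert h0 using 1
        push_cast; ring
      set c := coeff (N + n) z / -(((b + N : ℤ) : k) / (n : k)) with hcdef
      obtain ⟨h1, h2⟩ := lead p n U hU b (h := C c * PowerSeries.X ^ N) (N := N) (dvd_mul_left _ _)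
      refine ⟨h + C c * PowerSeries.X ^ N, ?_, by rw [add_sub_cancel_left]; exact dvd_mul_left _ _⟩
      rw [map_add, ← sub_sub, ← hz]
      rw [X_pow_dvd_iff] at hN h1 ⊢
      intro d hd
      rw [map_sub]
      rcases lt_or_eq_of_le (by omega : d ≤ N + n) with h3 | h3
      · rw [hN d h3, h1 d h3, sub_zero]
      · rw [h3, h2, coeff_C_mul_X_pow, if_pos rfl, hcdef, mul_div_cancel₀ _ hfac, sub_self]
  choose f hf1 hf2 using step
  let H : ∀ N : ℕ, {h : PowerSeries k // PowerSeries.X ^ (N + n) ∣ y - D U b h} := fun N =>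
    Nat.rec ⟨0, by simpa using hyn⟩ (fun i hi => ⟨f i hi.1 hi.2, hf1 i hi.1 hi.2⟩) N
  have hsucc : ∀ i, PowerSeries.X ^ i ∣ (H (i + 1)).1 - (H i).1 := fun i => hf2 i (H i).1 (H i).2
  have hmono : ∀ N j, PowerSeries.X ^ N ∣ (H (N + j)).1 - (H N).1 := by
    intro N j
    induction j with
    | zero => simp
    | succ j ih =>
      have := dvd_add ((pow_dvd_pow _ (by omega : N ≤ N + j)).trans (hsucc (N + j))) ih
      rwa [sub_add_sub_cancel] at this
  refine ⟨PowerSeries.mk fun j => coeff j (H (j + 1)).1, ?_⟩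
  set h := PowerSeries.mk fun j => coeff j (H (j + 1)).1 with hh
  have hclose : ∀ N, PowerSeries.X ^ N ∣ h - (H N).1 := by
    intro N
    rw [X_pow_dvd_iff]
    intro d hd
    have := X_pow_dvd_iff.mp (hmono (d + 1) (N - (d + 1))) d (Nat.lt_succ_self d)
    rw [Nat.add_sub_cancel' hd, map_sub, sub_eq_zero] at this
    rw [map_sub, hh, coeff_mk, this, sub_self]
  refine (sub_eq_zero.mp (PowerSeries.ext fun d => ?_)).symm
  have h1 := (lead p n U hU b (hclose (d + 1))).1
  have h2 := dvd_sub (H (d + 1)).2 h1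
  rw [map_sub, sub_sub, add_sub_cancel] at h2
  rw [map_zero]
  exact X_pow_dvd_iff.mp h2 d (by omega)

end Groth.Agent.ASCov
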