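import Mathlib
import Groth.Agent.ASCov.Basic

/-!
# The first `n` coefficients of a cocycle
-/

set_option autoImplicit false

universe u

open PowerSeries

namespace Groth.Agent.ASCov

variable {k : Type u} [Field k] (p : ℕ) [Fact p.Prime] [CharP k p] (n : ℕ) (U : (PowerSeries k)ˣ)

/-- The first `n` coefficients. -/
noncomputable def low : PowerSeries k →ₗ[k] (Fin n → k) := LinearMap.pi fun e => coeff (e : ℕ)

theorem low_apply (y : PowerSeries k) (e : Fin n) : low n y e = coeff (e : ℕ) y := rfl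

theorem low_eq_zero_iff {y : PowerSeries k} : low n y = 0 ↔ PowerSeries.X ^ n ∣ y := by
  rw [X_pow_dvd_iff, funext_iff]
  exact ⟨fun h d hd => h ⟨d, hd⟩, fun h e => h e e.isLt⟩

theorem low_D (hU : Good p n U) (b : ℤ) (h : PowerSeries k) : low n (D U b h) = 0 :=
  (low_eq_zero_iff n).mpr ((pow_dvd_pow _ (Nat.le_add_left n 0)).trans
    (lead p n U hU b (h := h) (N := 0) (by simp)).1)

/-- The cocycle of a monomial with exponent below zero. -/
theorem exists_cocycle (hU : Good p n U) (b : ℤ) (m : ℕ) (hm : m ≤ n) :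
    ∃ c : PowerSeries k, PowerSeries.X ^ m * c = ((U ^ (b - m) : (PowerSeries k)ˣ) : PowerSeries k) - 1 := by
  obtain ⟨s, hs⟩ := near_zpow p n U hU (b - m)
  refine ⟨PowerSeries.X ^ (n - m) * (C (-(((b - m : ℤ) : k) / (n : k))) + PowerSeries.X ^ n * s), ?_⟩
  rw [two_mul n, pow_add] at hs
  rw [← mul_assoc, ← pow_add, Nat.add_sub_cancel' hm]
  linear_combination -hs

theorem cocycle_mem (hU : Good p n U) (b : ℤ) (m : ℕ) {c : PowerSeries k}
    (hc : PowerSeries.X ^ m * c = ((U ^ (b - m) : (PowerSeries k)ˣ) : PowerSeries k) - 1) : c ∈ Z p U b := by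
  have h1 := commute_shift U b m (p - 1) c
  have h2 : ((U ^ (b - m) : (PowerSeries k)ˣ) : PowerSeries k) - 1 = D U (b - m) 1 := by
    rw [D_apply, map_one, mul_one]
  rw [hc, h2] at h1
  have h3 : (D U (b - m) ^ (p - 1)) (D U (b - m) 1) = 0 := D_mem_Z p n U hU (b - m) 1
  rw [h3] at h1
  exact (mul_eq_zero.mp h1).resolve_left (pow_ne_zero _ X_ne_zero)

theorem cocycle_coeff (hU : Good p n U) (b : ℤ) (m : ℕ) {c : PowerSeries k}
    (hc : PowerSeries.X ^ m * c = ((U ^ (b - m) : (PowerSeries k)ˣ) : PowerSeries k) - 1) {e : ℕ} (he : e + m < 2 * n) :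
    coeff e c = if e + m = n then -(((b - m : ℤ) : k) / (n : k)) else 0 := by
  have h0 : ((U ^ (b - m) : (PowerSeries k)ˣ) : PowerSeries k) - 1 =
      C (-(((b - m : ℤ) : k) / (n : k))) * PowerSeries.X ^ n +
        ((((U ^ (b - m) : (PowerSeries k)ˣ) : PowerSeries k)) -
          (1 + C (-(((b - m : ℤ) : k) / (n : k))) * PowerSeries.X ^ n)) := by ring
  rw [← coeff_X_pow_mul c m e, hc, h0, map_add, X_pow_dvd_iff.mp (near_zpow p n U hU (b - m)) _ he, add_zero,
    coeff_C_mul_X_pow]

/-- The indices where a cocycle may be nonzero. -/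
def good (b : ℤ) : Finset (Fin n) := Finset.univ.filter fun e => ¬ (p : ℤ) ∣ b + (e : ℕ) - n

theorem mem_good {b : ℤ} {e : Fin n} : e ∈ good p n b ↔ ¬ (p : ℤ) ∣ b + (e : ℕ) - n := by simp [good]

theorem exists_lift (hU : Good p n U) (b : ℤ) {e : Fin n} (he : e ∈ good p n b) :
    ∃ y ∈ Z p U b, low n y = Pi.single e 1 ∧ (b = 0 → coeff n y = 0) := by
  classical
  have hn0 : (n : k) ≠ 0 := by rw [Ne, CharP.cast_eq_zero_iff k p]; exact hU.not_dvd
  have he' := e.isLt
  obtain ⟨m, hm⟩ : ∃ m : ℕ, m = n - (e : ℕ) := ⟨_, rfl⟩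
  obtain ⟨c, hc⟩ := exists_cocycle p n U hU b m (by omega)
  set γ := -(((b - m : ℤ) : k) / (n : k)) with hγ
  have hγ0 : γ ≠ 0 := by
    refine neg_ne_zero.mpr (div_ne_zero (fun h0 => (mem_good p n).mp he ?_) hn0)
    rw [CharP.intCast_eq_zero_iff k p] at h0
    rw [hm, Nat.cast_sub he'.le] at h0
    convert h0 using 1
    ring
  refine ⟨γ⁻¹ • c, Submodule.smul_mem _ _ (cocycle_mem p n U hU b m hc), ?_, fun hb => ?_⟩
  · funext d
    have hd := d.isLt
    rw [map_smul, Pi.smul_apply, low_apply, cocycle_coeff p n U hU b m hc (by omega), smul_eq_mul, ← hγ]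
    rcases eq_or_ne d e with rfl | hde
    · rw [if_pos (by omega), Pi.single_eq_same, inv_mul_cancel₀ hγ0]
    · rw [if_neg (fun h => hde (Fin.ext (by omega))), Pi.single_eq_of_ne hde, mul_zero]
  · subst hb
    rw [map_smul]
    rcases eq_or_ne (e : ℕ) 0 with h0 | h0
    · have hmn : m = n := by omega
      subst m
      have h1 : ((U ^ ((0 : ℤ) - (n : ℕ)) : (PowerSeries k)ˣ) : PowerSeries k) = 1 + PowerSeries.X ^ n := by
        rw [zero_sub, zpow_neg, zpow_natCast]
        exact Units.inv_eq_of_mul_eq_one_right (by rw [Units.val_pow_eq_pow_val]; exact hU.rel)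
      rw [hmn, h1, add_sub_cancel_left] at hc
      have : c = 1 := mul_left_cancel₀ (pow_ne_zero n X_ne_zero) (hc.trans (mul_one _).symm)
      rw [this, coeff_one, if_neg hU.n_pos.ne', smul_zero]
    · rw [cocycle_coeff p n U hU 0 m hc (by omega), if_neg (by omega), smul_zero]

/-- A cocycle is a combination of the standard ones up to a coboundary. -/
theorem exists_decomp (hU : Good p n U) (b : ℤ) {y : PowerSeries k} (hy : y ∈ Z p U b) :
    (∀ e : Fin n, e ∉ good p n b → low n y e = 0) ∧ (b = 0 → coeff n y = 0) := by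
  classical
  choose f hf1 hf2 hf3 using fun e : good p n b => exists_lift p n U hU b e.2
  set s := ∑ e : good p n b, low n y e.1 • f e with hs
  have hsZ : s ∈ Z p U b := Submodule.sum_mem _ fun e _ => Submodule.smul_mem _ _ (hf1 e)
  have hlow : ∀ d : Fin n, low n s d = if d ∈ good p n b then low n y d else 0 := by
    intro d
    simp only [hs, map_sum, map_smul, hf2, Finset.sum_apply, Pi.smul_apply, smul_eq_mul, Pi.single_apply]
    split_ifs with h
    · rw [Finset.sum_eq_single ⟨d, h⟩]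
      · simp
      · exact fun e _ he => by rw [if_neg (fun hh => he (Subtype.ext hh.symm)), mul_zero]
      · exact fun h' => absurd (Finset.mem_univ _) h'
    · exact Finset.sum_eq_zero fun e _ => by rw [if_neg (fun hh : d = e.1 => h (hh ▸ e.2)), mul_zero]
  have hz : low n (y - s) = 0 := by
    by_contra hne
    obtain ⟨d, hd⟩ := Function.ne_iff.mp hne
    have hex : ∃ i, coeff i (y - s) ≠ 0 := ⟨d, hd⟩
    have hle := Nat.find_le (h := hex) (show coeff (d : ℕ) (y - s) ≠ 0 from hd)
    have hgood := not_bad p n U hU b (Submodule.sub_mem _ hy hsZ) (e := Nat.find hex)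
      (X_pow_dvd_iff.mpr fun i hi => not_not.mp (Nat.find_min hex hi)) (Nat.find_spec hex)
    refine Nat.find_spec hex ?_
    have hlt : Nat.find hex < n := lt_of_le_of_lt hle d.isLt
    have h1 := hlow ⟨Nat.find hex, hlt⟩
    rw [if_pos ((mem_good p n).mpr hgood)] at h1
    rw [map_sub, ← low_apply n y ⟨_, hlt⟩, ← low_apply n s ⟨_, hlt⟩, h1, sub_self]
  refine ⟨fun e he => ?_, fun hb => ?_⟩
  · have := congrFun hz e
    rw [map_sub, Pi.sub_apply, hlow, if_neg he, sub_zero] at this
    exact this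
  · obtain ⟨h, hh⟩ := solve p n U hU b (Submodule.sub_mem _ hy hsZ) ((low_eq_zero_iff n).mp hz)
    have h0 : coeff n (D U b h) = 0 := by
      have := (lead p n U hU b (h := h) (N := 0) (by simp)).2
      rw [Nat.zero_add] at this
      rw [this, hb]; simp
    have h1 : coeff n s = 0 := by
      simp only [hs, map_sum, map_smul]
      exact Finset.sum_eq_zero fun e _ => by rw [hf3 e hb, smul_zero]
    rwa [hh, map_sub, h1, sub_zero] at h0

/-- The functions supported in a finite set. -/
def suppIn (G : Finset (Fin n)) : Submodule k (Fin n → k) where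
  carrier := {f | ∀ e ∉ G, f e = 0}
  add_mem' hf hg e he := by simp [hf e he, hg e he]
  zero_mem' e _ := rfl
  smul_mem' r f hf e he := by simp [hf e he]

theorem finrank_suppIn (G : Finset (Fin n)) : Module.finrank k (suppIn (k := k) n G) = G.card := by
  classical
  let r : suppIn (k := k) n G →ₗ[k] (G → k) :=
    { toFun := fun f e => f.1 e.1
      map_add' := fun f g => rfl
      map_smul' := fun c f => rfl }
  have hr : Function.Bijective r := by
    refine ⟨fun f g h => Subtype.ext (funext fun e => ?_), fun g => ⟨⟨fun e => if h : e ∈ G then g ⟨e, h⟩ else 0,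
      fun e he => dif_neg he⟩, funext fun e => ?_⟩⟩
    · by_cases he : e ∈ G
      · exact congrFun h ⟨e, he⟩
      · rw [f.2 e he, g.2 e he]
    · show (if h : (e : Fin n) ∈ G then g ⟨e, h⟩ else 0) = g e
      rw [dif_pos e.2]
  rw [(LinearEquiv.ofBijective r hr).finrank_eq, Module.finrank_fintype_fun_eq_card, Fintype.card_coe]

theorem map_low_Z (hU : Good p n U) (b : ℤ) : (Z p U b).map (low n) = suppIn n (good p n b) := by
  classical
  refine le_antisymm ?_ fun f hf => ?_
  · rintro _ ⟨y, hy, rfl⟩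
    exact (exists_decomp p n U hU b hy).1
  · choose g hg1 hg2 hg3 using fun e : good p n b => exists_lift p n U hU b e.2
    refine ⟨∑ e : good p n b, f e.1 • g e, Submodule.sum_mem _ fun e _ => Submodule.smul_mem _ _ (hg1 e), ?_⟩
    funext d
    simp only [map_sum, map_smul, hg2, Finset.sum_apply, Pi.smul_apply, smul_eq_mul, Pi.single_apply]
    by_cases h : d ∈ good p n b
    · rw [Finset.sum_eq_single ⟨d, h⟩]
      · simp
      · exact fun e _ he => by rw [if_neg (fun hh => he (Subtype.ext hh.symm)), mul_zero]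
      · exact fun h' => absurd (Finset.mem_univ _) h'
    · rw [hf d h]
      exact Finset.sum_eq_zero fun e _ => by rw [if_neg (fun hh : d = e.1 => h (hh ▸ e.2)), mul_zero]

/-- The indices of the image of the derivative. -/
def good₂ : Finset (Fin n) :=
  Finset.univ.filter fun e => ¬ (p : ℤ) ∣ 1 + (e : ℕ) ∧ ¬ (p : ℤ) ∣ (1 - (n : ℤ)) + (e : ℕ)

theorem map_low_derivative (hU : Good p n U) :
    ((Z p U 0).map (derivative k : Derivation k (PowerSeries k) (PowerSeries k)).toLinearMap).map (low n) = suppIn n (good₂ p n) := by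
  classical
  have hval : ∀ (y : PowerSeries k) (e : Fin n), low n (derivative k y) e = coeff ((e : ℕ) + 1) y * (((e : ℕ) : k) + 1) :=
    fun y e => coeff_derivative _ _
  refine le_antisymm ?_ fun f hf => ?_
  · rintro _ ⟨_, ⟨y, hy, rfl⟩, rfl⟩ e he
    show low n (derivative k y) e = 0
    rw [hval]
    obtain ⟨h1, h2⟩ := exists_decomp p n U hU 0 hy
    have he' := e.isLt
    rcases eq_or_ne ((e : ℕ) + 1) n with h | h
    · rw [h, h2 rfl, zero_mul]
    · by_cases h3 : (p : ℤ) ∣ 1 + (e : ℕ)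
      · have : (((e : ℕ) : k) + 1) = 0 := by
          have := (CharP.intCast_eq_zero_iff k p _).mpr h3
          push_cast at this
          linear_combination this
        rw [this, mul_zero]
      · have h4 : (p : ℤ) ∣ (1 - (n : ℤ)) + (e : ℕ) := by
          by_contra h5
          exact he (Finset.mem_filter.mpr ⟨Finset.mem_univ _, h3, h5⟩)
        have h5 := h1 ⟨(e : ℕ) + 1, by omega⟩ (fun h6 => (mem_good p n).mp h6 (by
          convert h4 using 1; push_cast; ring))
        rw [low_apply] at h5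
        rw [h5, zero_mul]
  · have hlift : ∀ e ∈ good₂ p n, ∃ y ∈ (Z p U 0).map (derivative k : Derivation k (PowerSeries k) (PowerSeries k)).toLinearMap, low n y = Pi.single e 1 := by
      intro e he
      obtain ⟨-, h1, h2⟩ := Finset.mem_filter.mp he
      have he' := e.isLt
      have hlt : (e : ℕ) + 1 < n := by
        rcases eq_or_ne ((e : ℕ) + 1) n with h | h
        · exact absurd (by rw [show (1 - (n : ℤ)) + (e : ℕ) = 0 by omega]; exact dvd_zero _) h2
        · omega
      have hg : (⟨(e : ℕ) + 1, hlt⟩ : Fin n) ∈ good p n 0 := (mem_good p n).mpr (fun h => h2 (by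
        convert h using 1; push_cast; ring))
      obtain ⟨y, hy, hy1, hy2⟩ := exists_lift p n U hU 0 hg
      have hne : (((e : ℕ) : k) + 1) ≠ 0 := fun h => h1 ((CharP.intCast_eq_zero_iff k p _).mp (by
        push_cast; linear_combination h))
      refine ⟨derivative k ((((e : ℕ) : k) + 1)⁻¹ • y), Submodule.mem_map_of_mem (Submodule.smul_mem _ _ hy),
        funext fun d => ?_⟩
      rw [hval, map_smul, smul_eq_mul]
      have hd := d.isLt
      rcases eq_or_ne ((d : ℕ) + 1) n with h | h
      · rw [h, hy2 rfl, mul_zero, zero_mul, Pi.single_eq_of_ne (fun hde => by rw [hde] at h; omega)]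
      · rw [← low_apply n y ⟨(d : ℕ) + 1, by omega⟩, hy1]
        rcases eq_or_ne d e with rfl | hde
        · rw [Pi.single_eq_same, Pi.single_eq_same, mul_one, inv_mul_cancel₀ hne]
        · rw [Pi.single_eq_of_ne hde, Pi.single_eq_of_ne (fun hh => hde (Fin.ext (by
            have := congrArg Fin.val hh; simpa using this))), mul_zero, zero_mul]
    choose g hg1 hg2 using fun e : good₂ p n => hlift e.1 e.2
    refine ⟨∑ e : good₂ p n, f e.1 • g e, Submodule.sum_mem _ fun e _ => Submodule.smul_mem _ _ (hg1 e), ?_⟩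
    funext d
    simp only [map_sum, map_smul, hg2, Finset.sum_apply, Pi.smul_apply, smul_eq_mul, Pi.single_apply]
    by_cases h : d ∈ good₂ p n
    · rw [Finset.sum_eq_single ⟨d, h⟩]
      · simp
      · exact fun e _ he => by rw [if_neg (fun hh => he (Subtype.ext hh.symm)), mul_zero]
      · exact fun h' => absurd (Finset.mem_univ _) h'
    · rw [hf d h]
      exact Finset.sum_eq_zero fun e _ => by rw [if_neg (fun hh : d = e.1 => h (hh ▸ e.2)), mul_zero]

/-- Multiples of `p` in an interval. -/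
theorem card_dvd (c : ℤ) : ∀ N : ℕ,
    (((Finset.range N).filter fun e : ℕ => (p : ℤ) ∣ c + e).card : ℤ) = (c + N - 1) / p - (c - 1) / p
  | 0 => by simp
  | N + 1 => by
    have hp : (0 : ℤ) < p := by exact_mod_cast (Fact.out : p.Prime).pos
    rw [Finset.range_add_one, Finset.filter_insert]
    have ih := card_dvd c N
    by_cases h : (p : ℤ) ∣ c + N
    · rw [if_pos h, Finset.card_insert_of_notMem (by simp), Nat.cast_add, ih]
      obtain ⟨q, hq⟩ := h
      have h1 : (c + (N : ℤ) - 1) / p = q - 1 := by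
        rw [hq, show (p : ℤ) * q - 1 = ((p : ℤ) - 1) + (q - 1) * p by ring, Int.add_mul_ediv_right _ _ hp.ne',
          Int.ediv_eq_zero_of_lt (by omega) (by omega), zero_add]
      have h2 : (c + ((N + 1 : ℕ) : ℤ) - 1) / p = q := by
        rw [show c + ((N + 1 : ℕ) : ℤ) - 1 = c + (N : ℤ) by push_cast; ring, hq, Int.mul_ediv_cancel_left _ hp.ne']
      rw [h1, h2]; push_cast; ring
    · rw [if_neg h, ih]
      have h1 : (c + ((N + 1 : ℕ) : ℤ) - 1) / p = (c + (N : ℤ) - 1) / p := by
        rw [show c + ((N + 1 : ℕ) : ℤ) - 1 = (c + (N : ℤ) - 1) + 1 by push_cast; ring]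
        have e1 := Int.emod_add_mul_ediv (c + (N : ℤ) - 1) p
        have hr0 := Int.emod_nonneg (c + (N : ℤ) - 1) hp.ne'
        have hr1 := Int.emod_lt_of_pos (c + (N : ℤ) - 1) hp
        have hne : (c + (N : ℤ) - 1) % p ≠ p - 1 := fun he => h ⟨(c + (N : ℤ) - 1) / p + 1, by
          rw [he] at e1; linear_combination -e1⟩
        conv_lhs => rw [← e1]
        rw [show (c + (N : ℤ) - 1) % p + (p : ℤ) * ((c + (N : ℤ) - 1) / p) + 1 =
          ((c + (N : ℤ) - 1) % p + 1) + ((c + (N : ℤ) - 1) / p) * p by ring, Int.add_mul_ediv_right _ _ hp.ne',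
          Int.ediv_eq_zero_of_lt (by omega) (by omega), zero_add]
      rw [h1]

theorem card_filter_fin (c : ℤ) :
    ((Finset.univ.filter fun e : Fin n => (p : ℤ) ∣ c + (e : ℕ)).card : ℤ) = (c + n - 1) / p - (c - 1) / p := by
  rw [← card_dvd p c n, ← Finset.card_map Fin.valEmbedding]
  congr 2
  ext d
  simp only [Finset.mem_map, Finset.mem_filter, Finset.mem_univ, true_and, Fin.valEmbedding_apply, Finset.mem_range]
  exact ⟨fun ⟨e, he, h⟩ => h ▸ ⟨e.isLt, he⟩, fun ⟨h1, h2⟩ => ⟨⟨d, h1⟩, h2, rfl⟩⟩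

theorem card_good (b : ℤ) : ((good p n b).card : ℤ) = n - (b - 1) / (p : ℤ) + (b - 1 - n) / (p : ℤ) := by
  have h1 := card_filter_fin p n (b - n)
  have h2 := Finset.card_filter_add_card_filter_not (s := (Finset.univ : Finset (Fin n)))
    (fun e => (p : ℤ) ∣ (b - n) + (e : ℕ))
  rw [Finset.card_univ, Fintype.card_fin] at h2
  have h3 : good p n b = Finset.univ.filter fun e : Fin n => ¬ (p : ℤ) ∣ (b - n) + (e : ℕ) := by
    refine Finset.filter_congr fun e _ => ?_
    rw [show b + ((e : ℕ) : ℤ) - n = (b - n) + (e : ℕ) by ring]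
  rw [show b - (n : ℤ) + n - 1 = b - 1 by ring, show b - (n : ℤ) - 1 = b - 1 - n by ring] at h1
  rw [h3]
  omega

theorem card_good₂ (hn : 0 < n) (hpn : ¬ p ∣ n) :
    ((good₂ p n).card : ℤ) = ((n + 1) * (p - 1) : ℤ) / p - 1 - (n - 1 : ℤ) / p := by
  classical
  have hp : (0 : ℤ) < p := by exact_mod_cast (Fact.out : p.Prime).pos
  have hnd : ¬ (p : ℤ) ∣ (n : ℤ) := fun h => hpn (by exact_mod_cast h)
  have h1 := card_filter_fin p n 1
  have h2 := card_filter_fin p n (1 - n)
  rw [show (1 : ℤ) + n - 1 = n by ring, show (1 : ℤ) - 1 = 0 by ring, Int.zero_ediv] at h1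
  rw [show (1 : ℤ) - n + n - 1 = 0 by ring, show (1 : ℤ) - n - 1 = -(n : ℤ) by ring, Int.zero_ediv] at h2
  have hdisj : Disjoint (Finset.univ.filter fun e : Fin n => (p : ℤ) ∣ 1 + (e : ℕ))
      (Finset.univ.filter fun e : Fin n => (p : ℤ) ∣ (1 - n) + (e : ℕ)) :=
    Finset.disjoint_filter.mpr fun e _ he he' => hnd (by
      rw [show (n : ℤ) = (1 + (e : ℕ)) - ((1 - n) + (e : ℕ)) by ring]
      exact dvd_sub he he')
  have h3 : good₂ p n = Finset.univ \ ((Finset.univ.filter fun e : Fin n => (p : ℤ) ∣ 1 + (e : ℕ)) ∪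
      (Finset.univ.filter fun e : Fin n => (p : ℤ) ∣ (1 - n) + (e : ℕ))) := by
    ext e
    simp only [good₂, Finset.mem_filter, Finset.mem_univ, true_and, Finset.mem_sdiff, Finset.mem_union, not_or]
  have hle := Finset.card_le_univ ((Finset.univ.filter fun e : Fin n => (p : ℤ) ∣ 1 + (e : ℕ)) ∪
      (Finset.univ.filter fun e : Fin n => (p : ℤ) ∣ (1 - n) + (e : ℕ)))
  rw [h3, Finset.card_univ_sdiff, Finset.card_union_of_disjoint hdisj]
  rw [Finset.card_union_of_disjoint hdisj] at hle
  rw [Fintype.card_fin] at hle ⊢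
  have e1 : ((n : ℤ) + 1) * ((p : ℤ) - 1) / p = (n + 1) + (-(n : ℤ) - 1) / p := by
    rw [show ((n : ℤ) + 1) * ((p : ℤ) - 1) = (-(n : ℤ) - 1) + ((n : ℤ) + 1) * p by ring,
      Int.add_mul_ediv_right _ _ hp.ne', add_comm]
  have e2 := card_dvd p (n : ℤ) 1
  have e3 := card_dvd p (-(n : ℤ)) 1
  simp only [Finset.range_one, Finset.filter_singleton, Nat.cast_zero, add_zero, Nat.cast_one, add_sub_cancel_right,
    dvd_neg] at e2 e3
  rw [if_neg hnd] at e2 e3
  simp only [Finset.card_empty, Nat.cast_zero] at e2 e3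
  rw [e1]
  push_cast
  omega

end Groth.Agent.ASCov
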