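import Mathlib
import Groth.Agent.ASCov.Coords

/-!
# First cohomology of the cyclic group of order `p` on twisted power series
-/

set_option autoImplicit false

universe u

open PowerSeries CategoryTheory

namespace Groth.Agent.ASCov

theorem sub_one_pow_eq_geom_sum (k : Type u) [Field k] (p : ℕ) [Fact p.Prime] [CharP k p] {A : Type*} [Ring A]
    [Algebra k A] (x : A) : (x - 1) ^ (p - 1) = ∑ i ∈ Finset.range p, x ^ i := by
  have hP : ((Polynomial.X : Polynomial k) - 1) ^ (p - 1) = ∑ i ∈ Finset.range p, Polynomial.X ^ i := by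
    refine mul_right_cancel₀ (Polynomial.X_sub_C_ne_zero (1 : k)) ?_
    rw [map_one, ← pow_succ, Nat.sub_add_cancel (Fact.out : p.Prime).one_le, geom_sum_mul,
      sub_pow_char_of_commute p (Commute.one_right _), one_pow]
  simpa using congrArg (Polynomial.aeval x) hP

variable {k : Type u} [Field k] (p : ℕ) [Fact p.Prime] [CharP k p] (n : ℕ) (U : (PowerSeries k)ˣ)
  {G : Type u} [Group G] (g : G) (hG : Nat.card G = p) (hg : ∀ x : G, x ∈ Subgroup.zpowers g)
  (ρ : Representation k G (PowerSeries k)) (b : ℤ) (hρ : ρ g = T U b)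

include hρ in
theorem cocycle_pow (f : groupCohomology.cocycles₁ (Rep.of ρ)) : ∀ i : ℕ,
    f (g ^ i) = ∑ j ∈ Finset.range i, (T U b ^ j) (f g)
  | 0 => by rw [pow_zero]; exact groupCohomology.cocycles₁_map_one f
  | i + 1 => by
    rw [pow_succ, (groupCohomology.mem_cocycles₁_iff (A := Rep.of ρ) ⇑f).1 f.2 (g ^ i) g, Finset.sum_range_succ, add_comm,
      cocycle_pow f i]
    show _ + (ρ (g ^ i)) (f g) = _
    rw [map_pow, hρ]

include hG hg in
theorem orderOf_g : orderOf g = p := hG ▸ orderOf_eq_card_of_forall_mem_zpowers hg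

include hρ hG hg in
theorem cocycle_mem_Z (f : groupCohomology.cocycles₁ (Rep.of ρ)) : f g ∈ Z p U b := by
  show (D U b ^ (p - 1)) (f g) = 0
  rw [D, sub_one_pow_eq_geom_sum k p, LinearMap.sum_apply, ← cocycle_pow U g ρ b hρ f p,
    ← orderOf_g p g hG hg, pow_orderOf_eq_one]
  exact groupCohomology.cocycles₁_map_one f

include hρ hG hg in
theorem cocycle_ext [Finite G] (f f' : groupCohomology.cocycles₁ (Rep.of ρ)) (h : f g = f' g) : f = f' := by
  refine groupCohomology.cocycles₁_ext fun x => ?_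
  obtain ⟨i, rfl⟩ := (mem_powers_iff_mem_zpowers.mpr (hg x) : x ∈ Submonoid.powers g)
  show f (g ^ i) = f' (g ^ i)
  rw [cocycle_pow U g ρ b hρ, cocycle_pow U g ρ b hρ, h]

include hρ hG hg in
theorem exists_cocycle_of_mem_Z [Finite G] (hU : Good p n U) {y : PowerSeries k} (hy : y ∈ Z p U b) :
    ∃ f : groupCohomology.cocycles₁ (Rep.of ρ), f g = y := by
  let S : ℕ → PowerSeries k := fun i => ∑ j ∈ Finset.range i, (T U b ^ j) y
  have hadd : ∀ i j, S (i + j) = (T U b ^ i) (S j) + S i := by
    intro i j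
    simp only [S]
    rw [Finset.sum_range_add, map_sum, add_comm]
    exact congrArg (· + _) (Finset.sum_congr rfl fun l _ => by rw [pow_add, Module.End.mul_apply])
  have hSp : S p = 0 := by
    show ∑ j ∈ Finset.range p, (T U b ^ j) y = 0
    rw [← LinearMap.sum_apply, ← sub_one_pow_eq_geom_sum k p]
    exact hy
  have hper : ∀ q r, S (r + p * q) = S r := by
    intro q
    induction q with
    | zero => simp
    | succ q ih =>
      intro r
      rw [show r + p * (q + 1) = p + (r + p * q) by ring, hadd, T_pow_p p n U hU b, Module.End.one_apply, hSp,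
        add_zero, ih]
  have hmod : ∀ i j, g ^ i = g ^ j → S i = S j := by
    intro i j hij
    rw [pow_eq_pow_iff_modEq, orderOf_g p g hG hg] at hij
    rw [← Nat.mod_add_div i p, ← Nat.mod_add_div j p, hper, hper]
    exact congrArg S hij
  choose idx hidx using fun x : G => ((mem_powers_iff_mem_zpowers.mpr (hg x) : x ∈ Submonoid.powers g))
  refine ⟨⟨fun x => S (idx x), (groupCohomology.mem_cocycles₁_iff _).2 fun x z => ?_⟩, ?_⟩
  · show S (idx (x * z)) = ρ x (S (idx z)) + S (idx x)
    have h1 : g ^ idx (x * z) = g ^ (idx x + idx z) := by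
      rw [pow_add, show g ^ idx (x * z) = x * z from hidx _, show g ^ idx x = x from hidx x,
        show g ^ idx z = z from hidx z]
    rw [hmod _ _ h1, hadd, ← hρ, ← map_pow, show g ^ idx x = x from hidx x]
  · show S (idx g) = y
    rw [hmod (idx g) 1 (by rw [pow_one]; exact hidx g)]
    simp [S]

/-- The first coefficients of a class. -/
noncomputable def evalLow : groupCohomology.cocycles₁ (Rep.of ρ) →ₗ[k] (Fin n → k) :=
  (low n).comp ((LinearMap.proj g).comp (groupCohomology.cocycles₁ (Rep.of ρ)).subtype)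

theorem d₀₁_apply' (h : PowerSeries k) (x : G) :
    (groupCohomology.d₀₁ (Rep.of ρ)).hom h x = ρ x h - h := rfl

include hρ hG hg in
theorem exists_psi [Finite G] (hU : Good p n U) :
    ∃ ψ : groupCohomology.H1 (Rep.of ρ) →ₗ[k] (Fin n → k), Function.Injective ψ ∧
      (∀ f, ψ (groupCohomology.H1π (Rep.of ρ) f) = low n (f g)) ∧
      LinearMap.range ψ = (Z p U b).map (low n) := by
  set π := (groupCohomology.H1π (Rep.of ρ)).hom with hπ
  have hπs : Function.Surjective π := fun x => by
    induction x using groupCohomology.H1_induction_on with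
    | h f => exact ⟨f, rfl⟩
  have hker : ∀ f : groupCohomology.cocycles₁ (Rep.of ρ), π f = 0 ↔ low n (f g) = 0 := by
    intro f
    rw [show π f = groupCohomology.H1π (Rep.of ρ) f from rfl, groupCohomology.H1π_eq_zero_iff]
    constructor
    · rintro ⟨h, hh⟩
      have := congrFun hh g
      rw [show f g = D U b h by rw [← this]; show ρ g h - h = _; rw [hρ]; rfl]
      exact low_D p n U hU b h
    · intro h0
      obtain ⟨h, hh⟩ := solve p n U hU b (cocycle_mem_Z p U g hG hg ρ b hρ f) ((low_eq_zero_iff n).mp h0)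
      have hmem : (groupCohomology.d₀₁ (Rep.of ρ)).hom h ∈ groupCohomology.cocycles₁ (Rep.of ρ) :=
        groupCohomology.coboundaries₁_le_cocycles₁ (Rep.of ρ) (LinearMap.mem_range_self _ h)
      have hval : f g = (groupCohomology.d₀₁ (Rep.of ρ)).hom h g := by
        rw [d₀₁_apply' ρ h g, hρ, ← hh]
        exact D_apply U b h
      rw [cocycle_ext p U g hG hg ρ b hρ f ⟨_, hmem⟩ hval]
      exact LinearMap.mem_range_self _ h
  have hle : LinearMap.ker π ≤ LinearMap.ker (evalLow n g ρ) := fun f hf => (hker f).mp hf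
  let ψ : groupCohomology.H1 (Rep.of ρ) →ₗ[k] (Fin n → k) :=
    (Submodule.liftQ _ (evalLow n g ρ) hle).comp (π.quotKerEquivOfSurjective hπs).symm.toLinearMap
  have hψ : ∀ f, ψ (π f) = low n (f g) := fun f => by
    have : (π.quotKerEquivOfSurjective hπs).symm (π f) = Submodule.Quotient.mk f := by
      rw [LinearEquiv.symm_apply_eq]; rfl
    show Submodule.liftQ _ (evalLow n g ρ) hle ((π.quotKerEquivOfSurjective hπs).symm (π f)) = _
    rw [this]; rfl
  refine ⟨ψ, ?_, hψ, le_antisymm ?_ ?_⟩
  · rw [← LinearMap.ker_eq_bot, eq_bot_iff]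
    intro x hx
    obtain ⟨f, rfl⟩ := hπs x
    exact (Submodule.mem_bot k).mpr ((hker f).mpr ((hψ f).symm.trans hx))
  · rintro _ ⟨x, rfl⟩
    obtain ⟨f, rfl⟩ := hπs x
    rw [hψ]
    exact Submodule.mem_map_of_mem (cocycle_mem_Z p U g hG hg ρ b hρ f)
  · rintro _ ⟨y, hy, rfl⟩
    obtain ⟨f, rfl⟩ := exists_cocycle_of_mem_Z p n U g hG hg ρ b hρ hU hy
    exact ⟨π f, hψ f⟩

include hρ hG hg in
theorem finrank_H1 [Finite G] (hU : Good p n U) :
    Module.Finite k (groupCohomology.H1 (Rep.of ρ)) ∧
      (Module.finrank k (groupCohomology.H1 (Rep.of ρ)) : ℤ) = n - (b - 1) / (p : ℤ) + (b - 1 - n) / (p : ℤ) := by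
  obtain ⟨ψ, hψi, -, hψr⟩ := exists_psi p n U g hG hg ρ b hρ hU
  rw [map_low_Z p n U hU] at hψr
  refine ⟨Module.Finite.of_injective ψ hψi, ?_⟩
  rw [← LinearMap.finrank_range_of_inj hψi, hψr, finrank_suppIn, card_good]

include hρ hG hg in
theorem finrank_map_derivative [Finite G] (hU : Good p n U) (hb : b = 0) (ρ₁ : Representation k G (PowerSeries k))
    (b₁ : ℤ) (hρ₁ : ρ₁ g = T U b₁) (φ : Rep.of ρ ⟶ Rep.of ρ₁)
    (hφ : ∀ h : PowerSeries k, φ.hom h = derivative k h) :
    Module.Finite k (LinearMap.range ((groupCohomology.functor k G 1).map φ).hom) ∧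
      (Module.finrank k (LinearMap.range ((groupCohomology.functor k G 1).map φ).hom) : ℤ) =
        ((n + 1) * (p - 1) : ℤ) / p - 1 - (n - 1 : ℤ) / p := by
  subst hb
  obtain ⟨ψ, hψi, hψ, -⟩ := exists_psi p n U g hG hg ρ₁ b₁ hρ₁ hU
  set F : groupCohomology.H1 (Rep.of ρ) →ₗ[k] groupCohomology.H1 (Rep.of ρ₁) :=
    ((groupCohomology.functor k G 1).map φ).hom with hF
  have hFπ : ∀ f, ψ (F (groupCohomology.H1π (Rep.of ρ) f)) = low n (derivative k (f g)) := by
    intro f
    have h1 := ConcreteCategory.congr_hom (groupCohomology.H1π_comp_map (MonoidHom.id G) φ) f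
    simp only [ModuleCat.hom_comp, LinearMap.comp_apply, ConcreteCategory.comp_apply] at h1
    rw [show F (groupCohomology.H1π (Rep.of ρ) f) = groupCohomology.map (MonoidHom.id G) φ 1
      (groupCohomology.H1π (Rep.of ρ) f) from rfl]
    erw [h1]
    rw [hψ]
    exact congrArg (low n) (hφ _)
  have hrange : LinearMap.range (ψ.comp F) = suppIn n (good₂ p n) := by
    rw [← map_low_derivative p n U hU]
    refine le_antisymm ?_ ?_
    · rintro _ ⟨x, rfl⟩
      induction x using groupCohomology.H1_induction_on with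
      | h f =>
        rw [LinearMap.comp_apply, hFπ]
        exact Submodule.mem_map_of_mem (Submodule.mem_map_of_mem (cocycle_mem_Z p U g hG hg ρ 0 hρ f))
    · rintro _ ⟨_, ⟨y, hy, rfl⟩, rfl⟩
      obtain ⟨f, rfl⟩ := exists_cocycle_of_mem_Z p n U g hG hg ρ 0 hρ hU hy
      exact ⟨groupCohomology.H1π (Rep.of ρ) f, hFπ f⟩
  let r : LinearMap.range F →ₗ[k] (Fin n → k) := ψ.comp (LinearMap.range F).subtype
  have hr : Function.Injective r := hψi.comp Subtype.val_injective
  refine ⟨Module.Finite.of_injective r hr, ?_⟩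
  have : Module.finrank k (LinearMap.range F) = (good₂ p n).card := by
    rw [← LinearMap.finrank_range_of_inj hr, show LinearMap.range r = LinearMap.range (ψ.comp F) by
      rw [LinearMap.range_comp, Submodule.range_subtype, LinearMap.range_comp], hrange, finrank_suppIn]
  rw [show Module.finrank k (LinearMap.range ((groupCohomology.functor k G 1).map φ).hom) = (good₂ p n).card from this]
  exact card_good₂ p n hU.n_pos hU.not_dvd

end Groth.Agent.ASCov
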